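import Mathlib

/-!
# Vanishing orders of a finite-dimensional space of sections at a point: abstract part
-/

set_option autoImplicit false
universe u v

namespace Groth.Agent.H5.Ord

open Module

section Filt

variable {k : Type*} [Field k] {V : Type*} [AddCommGroup V] [Module k V] [FiniteDimensional k V]

/-- a "valuation" `w` on a finite-dimensional space whose filtration has one-dimensional jumps
takes exactly `dim` values on the nonzero vectors. -/
theorem ncard_image_of_filtration (w : V → ℕ∞) (F : ℕ → Submodule k V)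
    (h0 : ∀ v : V, v ≠ 0 → w v ≠ ⊤)
    (hF : ∀ v : V, v ≠ 0 → ∀ n : ℕ, v ∈ F n ↔ (n : ℕ∞) ≤ w v)
    (h1 : ∀ (n : ℕ) (v v' : V), v ∈ F n → v' ∈ F n → v' ∉ F (n + 1) →
      ∃ c : k, v - c • v' ∈ F (n + 1)) :
    ∀ (d : ℕ) (W : Submodule k V), finrank k W = d →
      (w '' {v | v ∈ W ∧ v ≠ 0}).Finite ∧ (w '' {v | v ∈ W ∧ v ≠ 0}).ncard = d := by
  intro d
  induction d with
  | zero =>
    intro W hW
    have hbot : W = ⊥ := Submodule.finrank_eq_zero.mp hW
    have hempty : {v | v ∈ W ∧ v ≠ 0} = (∅ : Set V) := by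
      ext v
      simp only [Set.mem_setOf_eq, Set.mem_empty_iff_false, iff_false, not_and, not_not]
      intro hv
      rw [hbot] at hv
      exact (Submodule.mem_bot k).mp hv
    rw [hempty, Set.image_empty]
    exact ⟨Set.finite_empty, Set.ncard_empty _⟩
  | succ d ih =>
    intro W hW
    set S := w '' {v | v ∈ W ∧ v ≠ 0} with hS
    have hne : W ≠ ⊥ := by
      intro h
      rw [h, finrank_bot] at hW
      omega
    obtain ⟨v₁, hv₁W, hv₁0⟩ := Submodule.exists_mem_ne_zero_of_ne_bot hne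
    have hSne : S.Nonempty := ⟨w v₁, v₁, ⟨hv₁W, hv₁0⟩, rfl⟩
    have hmem : sInf S ∈ S := csInf_mem hSne
    obtain ⟨v₀, ⟨hv₀W, hv₀0⟩, hv₀⟩ := hmem
    have hmin : ∀ v, v ∈ W → v ≠ 0 → w v₀ ≤ w v := by
      intro v hvW hv0
      rw [hv₀]
      exact csInf_le (OrderBot.bddBelow S) ⟨v, ⟨hvW, hv0⟩, rfl⟩
    obtain ⟨n, hn⟩ : ∃ n : ℕ, w v₀ = n := by
      have := h0 v₀ hv₀0
      exact ⟨(w v₀).toNat, (ENat.natCast_toNat this).symm⟩
    have hv₀n : v₀ ∈ F n := (hF v₀ hv₀0 n).mpr hn.ge
    have hv₀n1 : v₀ ∉ F (n + 1) := by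
      intro h
      have := (hF v₀ hv₀0 (n + 1)).mp h
      rw [hn] at this
      have h2 : n + 1 ≤ n := by exact_mod_cast this
      omega
    set W' : Submodule k V := W ⊓ F (n + 1) with hW'
    have hsup : W' ⊔ Submodule.span k {v₀} = W := by
      apply le_antisymm
      · refine sup_le inf_le_left ?_
        rw [Submodule.span_le]
        exact Set.singleton_subset_iff.mpr hv₀W
      · intro v hvW
        by_cases hv0 : v = 0
        · rw [hv0]; exact Submodule.zero_mem _
        have hvn : v ∈ F n := (hF v hv0 n).mpr (hn ▸ hmin v hvW hv0)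
        obtain ⟨c, hc⟩ := h1 n v v₀ hvn hv₀n hv₀n1
        have : v = (v - c • v₀) + c • v₀ := by abel
        rw [this]
        refine Submodule.add_mem_sup ⟨?_, hc⟩ ?_
        · exact W.sub_mem hvW (W.smul_mem c hv₀W)
        · exact Submodule.smul_mem _ c (Submodule.mem_span_singleton_self v₀)
    have hinf : W' ⊓ Submodule.span k {v₀} = ⊥ := by
      rw [eq_bot_iff]
      intro v ⟨hvW', hvs⟩
      obtain ⟨c, rfl⟩ := Submodule.mem_span_singleton.mp hvs
      by_cases hc : c = 0
      · rw [hc, zero_smul]; exact Submodule.zero_mem _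
      · exfalso
        apply hv₀n1
        have h2 : c⁻¹ • (c • v₀) ∈ F (n + 1) := Submodule.smul_mem _ _ hvW'.2
        rwa [smul_smul, inv_mul_cancel₀ hc, one_smul] at h2
    have hfin := Submodule.finrank_sup_add_finrank_inf_eq W' (Submodule.span k {v₀})
    rw [hsup, hinf, finrank_bot, hW, finrank_span_singleton hv₀0] at hfin
    have hW'd : finrank k W' = d := by omega
    obtain ⟨hfinS', hcard'⟩ := ih W' hW'd
    have hSeq : S = insert (w v₀) (w '' {v | v ∈ W' ∧ v ≠ 0}) := by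
      ext a
      constructor
      · rintro ⟨v, ⟨hvW, hv0⟩, rfl⟩
        by_cases hvn1 : v ∈ F (n + 1)
        · exact Set.mem_insert_of_mem _ ⟨v, ⟨⟨hvW, hvn1⟩, hv0⟩, rfl⟩
        · have h3 : w v₀ ≤ w v := hmin v hvW hv0
          have h4 : ¬ ((n + 1 : ℕ) : ℕ∞) ≤ w v := fun h => hvn1 ((hF v hv0 (n + 1)).mpr h)
          have h5 : w v = w v₀ := by
            rw [hn] at h3 ⊢
            obtain ⟨j, hj⟩ : ∃ j : ℕ, w v = j :=
              ⟨(w v).toNat, (ENat.natCast_toNat (h0 v hv0)).symm⟩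
            rw [hj] at h3 h4 ⊢
            have h3' : n ≤ j := by exact_mod_cast h3
            have h4' : ¬ n + 1 ≤ j := by exact_mod_cast h4
            have : j = n := by omega
            rw [this]
          rw [h5]
          exact Set.mem_insert _ _
      · intro ha
        rcases Set.mem_insert_iff.mp ha with rfl | ⟨v, ⟨hvW', hv0⟩, rfl⟩
        · exact ⟨v₀, ⟨hv₀W, hv₀0⟩, rfl⟩
        · exact ⟨v, ⟨hvW'.1, hv0⟩, rfl⟩
    have hnotin : w v₀ ∉ w '' {v | v ∈ W' ∧ v ≠ 0} := by
      rintro ⟨v, ⟨hvW', hv0⟩, hv⟩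
      have := (hF v hv0 (n + 1)).mp hvW'.2
      rw [hv, hn] at this
      have h2 : n + 1 ≤ n := by exact_mod_cast this
      omega
    rw [hSeq]
    refine ⟨hfinS'.insert _, ?_⟩
    rw [Set.ncard_insert_of_notMem hnotin hfinS', hcard']

end Filt

end Groth.Agent.H5.Ord
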