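import Mathlib
import Groth.Agent.Lib.Helper5.Ord.OrdAbs

/-!
# Vanishing orders of a finite-dimensional space of sections at a point: discrete valuation rings
-/

set_option autoImplicit false
universe u v

namespace Groth.Agent.H5.Ord

open Module

section DVR

variable {O : Type*} [CommRing O] [IsDomain O] [IsDiscreteValuationRing O]

theorem ord_spec {ϖ : O} (hϖ : Irreducible ϖ) {y : O} (hy : y ≠ 0) :
    ∃ j : ℕ, Ring.ord O y = j ∧ ∀ n : ℕ, ϖ ^ n ∣ y ↔ n ≤ j := by
  obtain ⟨j, u, rfl⟩ := IsDiscreteValuationRing.eq_unit_mul_pow_irreducible hy hϖ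
  refine ⟨j, ?_, fun n => ?_⟩
  · rw [Ring.ord_mul_of_isUnit_left u.isUnit,
      Ring.ord_pow (mem_nonZeroDivisors_of_ne_zero hϖ.ne_zero), Ring.ord_of_irreducible hϖ]
    simp
  · rw [Units.dvd_mul_left]
    exact pow_dvd_pow_iff hϖ.ne_zero hϖ.not_isUnit

variable {k : Type*} [Field k] {E : Type*} [AddCommGroup E] [Module O E]
  {V : Type*} [AddCommGroup V] [Module k V] [FiniteDimensional k V]

theorem length_quot_span_eq_ord (ε : O ≃ₗ[O] E) (x : E) :
    Module.length O (E ⧸ Submodule.span O {x}) = Ring.ord O (ε.symm x) := by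
  have hmap : (Submodule.span O {ε.symm x} : Submodule O O).map (ε : O →ₗ[O] E) =
      Submodule.span O {x} := by
    rw [Submodule.map_span, Set.image_singleton]
    simp
  exact (Submodule.Quotient.equiv _ _ ε hmap).length_eq.symm

theorem ncard_length_image (ε : O ≃ₗ[O] E)
    (ι : k →+* O) (hι : ∀ a : O, ∃ c : k, a - ι c ∈ IsLocalRing.maximalIdeal O)
    (φ : V →+ E) (hφ : ∀ (c : k) (v : V), φ (c • v) = ι c • φ v) (hinj : Function.Injective φ) :
    Set.ncard ((fun v => Module.length O (E ⧸ Submodule.span O {φ v})) '' {v | v ≠ 0})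
      = Module.finrank k V := by
  obtain ⟨ϖ, hϖ⟩ := IsDiscreteValuationRing.exists_irreducible O
  let ψ : V → O := fun v => ε.symm (φ v)
  have hψadd : ∀ v v', ψ (v + v') = ψ v + ψ v' := fun v v' => by
    simp only [ψ, map_add]
  have hψ0 : ψ 0 = 0 := by simp only [ψ, map_zero]
  have hψsmul : ∀ (c : k) v, ψ (c • v) = ι c * ψ v := fun c v => by
    simp only [ψ, hφ, map_smul, smul_eq_mul]
  have hψsub : ∀ v v', ψ (v - v') = ψ v - ψ v' := fun v v' => by
    simp only [ψ, map_sub]
  have hψne : ∀ v, v ≠ 0 → ψ v ≠ 0 := by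
    intro v hv h
    apply hv
    apply hinj
    rw [map_zero]
    have := congrArg ε h
    simpa only [ψ, LinearEquiv.apply_symm_apply, map_zero] using this
  let F : ℕ → Submodule k V := fun n =>
    { carrier := {v | ϖ ^ n ∣ ψ v}
      add_mem' := fun {a b} ha hb => by
        simp only [Set.mem_ofPred_eq] at ha hb ⊢
        rw [hψadd]; exact dvd_add ha hb
      zero_mem' := by
        simp only [Set.mem_ofPred_eq]
        rw [hψ0]; exact dvd_zero _
      smul_mem' := fun c v hv => by
        simp only [Set.mem_ofPred_eq] at hv ⊢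
        rw [hψsmul]; exact dvd_mul_of_dvd_right hv _ }
  have hFmem : ∀ n v, v ∈ F n ↔ ϖ ^ n ∣ ψ v := fun n v => Iff.rfl
  have key := ncard_image_of_filtration (k := k) (V := V) (fun v => Ring.ord O (ψ v)) F
    (fun v hv => by
      obtain ⟨j, hj, -⟩ := ord_spec hϖ (hψne v hv)
      simp only [hj]
      exact ENat.natCast_ne_top j)
    (fun v hv n => by
      obtain ⟨j, hj, hjn⟩ := ord_spec hϖ (hψne v hv)
      rw [hFmem, hjn n]
      simp only [hj]
      exact Nat.cast_le.symm)
    (fun n v v' hv hv' hv'1 => by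
      rw [hFmem] at hv hv' hv'1
      obtain ⟨a, ha⟩ := hv
      obtain ⟨a', ha'⟩ := hv'
      have hunit : IsUnit a' := by
        by_contra hnu
        have hm : a' ∈ IsLocalRing.maximalIdeal O := (IsLocalRing.mem_maximalIdeal a').mpr hnu
        rw [hϖ.maximalIdeal_eq, Ideal.mem_span_singleton] at hm
        obtain ⟨t, rfl⟩ := hm
        apply hv'1
        rw [ha', pow_succ]
        exact mul_dvd_mul_left _ (dvd_mul_right _ _)
      obtain ⟨u', rfl⟩ := hunit
      obtain ⟨c, hc⟩ := hι (a * ↑u'⁻¹)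
      rw [hϖ.maximalIdeal_eq, Ideal.mem_span_singleton] at hc
      obtain ⟨t, ht⟩ := hc
      refine ⟨c, ?_⟩
      rw [hFmem, hψsub, hψsmul, ha, ha']
      refine ⟨↑u' * t, ?_⟩
      have h1 : a = (ι c + ϖ * t) * ↑u' := by
        rw [← ht]
        simp
      rw [h1]
      ring)
    (finrank k V) ⊤ (finrank_top k V)
  have hset : {v : V | v ∈ (⊤ : Submodule k V) ∧ v ≠ 0} = {v | v ≠ 0} := by
    ext v; simp
  rw [hset] at key
  have hfun : (fun v => Module.length O (E ⧸ Submodule.span O {φ v})) =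
      fun v => Ring.ord O (ψ v) := by
    funext v
    exact length_quot_span_eq_ord ε (φ v)
  rw [hfun]
  exact key.2

end DVR

end Groth.Agent.H5.Ord
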