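import Mathlib
import Groth.Agent.Lib.Helper5.Ord.OrdDvr
import Groth.Agent.Lib.Helper5.NegFilt.Stalk
import Groth.Agent.Lib.Helper2.PicCodim2
import Groth.Agent.Lib.Lead.Misc3.NormSS1
import Groth.Agent.Lib.Helper5.Gro.PtUnif
import Groth.Agent.Lib.Helper1.SmoothReg
import Groth.Prelude.Def_LinSer
import Groth.Prelude.Def_Curve
import Groth.Prelude.Def_FlatMod2

/-!
# Vanishing orders of a linear series at a point of a smooth curve
-/

set_option autoImplicit false
set_option linter.style.haveILetI false
universe u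
open CategoryTheory CategoryTheory.Limits AlgebraicGeometry TopologicalSpace Opposite

namespace Groth.Agent.H5.Ord

open Groth.Agent.LD.QC Groth.Agent.H5.NegFilt Groth.Agent.H2.PicCodim2

variable (k : Type u) [Field k] [IsAlgClosed k] (C : Scheme.{u}) [C.Over (Spec (CommRingCat.of k))]

/-- the stalks of an invertible module on an integral scheme are torsion free. -/
theorem torsion_eq_bot_of_isInvertible [IsIntegral C] (L : C.Modules) (hL : PicF.IsInvertible L)
    (x : C) : Submodule.torsion (C.presheaf.stalk x) (L.presheaf.stalk x) = ⊥ := by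
  obtain ⟨U, e, hxU, he⟩ := (isInvertible_iff_exists_isBasisOver L).1 hL x
  let ε := LinearEquiv.ofBijective _ (bijective_toSpanSingleton_germ L U e he x hxU)
  rw [eq_bot_iff]
  intro m hm
  obtain ⟨⟨a, ha⟩, ham⟩ := (Submodule.mem_torsion_iff m).mp hm
  obtain ⟨y, rfl⟩ := ε.surjective m
  have h1 : ε (a • y) = 0 := by rw [map_smul]; exact ham
  have h2 : a • y = 0 := by
    apply ε.injective
    rw [h1, map_zero]
  rw [smul_eq_mul] at h2
  have hy : y = 0 := by
    rcases mul_eq_zero.mp h2 with h | h
    · exact absurd h (nonZeroDivisors.ne_zero ha)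
    · exact h
  rw [hy, map_zero]
  exact Submodule.zero_mem _

theorem ncard_vanishing_orders
    (hC : Curve.IsSmoothProperCurve k C (C ↘ Spec (CommRingCat.of k)))
    (L : C.Modules) (hL : PicF.IsInvertible L) {r : ℕ}
    (s : Fin (r + 1) → LinSer.Sect C L) (hs : LinSer.LinIndep k C L s)
    (p : C) (hp : IsClosed ({p} : Set C)) :
    Set.ncard ((fun c : Fin (r + 1) → k =>
        Module.length (C.presheaf.stalk p)
          (↥(L.presheaf.stalk p) ⧸ Submodule.span (C.presheaf.stalk p)
            {(L.presheaf.germ ⊤ p trivial) (∑ i, (Coh.toGlobal (C ↘ Spec (CommRingCat.of k)) (c i)) • s i)})) ''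
        {c : Fin (r + 1) → k | c ≠ 0}) = r + 1 := by
  obtain ⟨hprop, hsm, hint, hdim⟩ := hC
  haveI := hprop
  haveI := hsm
  haveI := hint
  haveI : IsLocallyNoetherian C :=
    LocallyOfFiniteType.isLocallyNoetherian (C ↘ Spec (CommRingCat.of k))
  have hreg : IsRegularLocalRing (C.presheaf.stalk p) :=
    Groth.Agent.H1.SmoothReg.isRegularLocalRing_of_mem_smoothLocus k
      (C ↘ Spec (CommRingCat.of k)) p
      (by rw [Scheme.Hom.smoothLocus_eq_top_iff.mpr hsm]; trivial)
  obtain ⟨ϖ, hϖ0, hϖ⟩ := Groth.Agent.H5.Gro.PtUnif.exists_uniformizer hdim p hp hreg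
  haveI : IsDiscreteValuationRing (C.presheaf.stalk p) := by
    have hnf : ¬ IsField (C.presheaf.stalk p) := by
      intro hf
      have h1 := IsLocalRing.isField_iff_maximalIdeal_eq.mp hf
      rw [hϖ, Ideal.span_singleton_eq_bot] at h1
      exact hϖ0 h1
    have hpr : (IsLocalRing.maximalIdeal (C.presheaf.stalk p)).IsPrincipal := ⟨⟨ϖ, hϖ⟩⟩
    exact ((IsDiscreteValuationRing.TFAE (C.presheaf.stalk p) hnf).out 0 4).mpr hpr
  obtain ⟨U, e, hpU, he⟩ := (isInvertible_iff_exists_isBasisOver L).1 hL p
  let ε : C.presheaf.stalk p ≃ₗ[C.presheaf.stalk p] L.presheaf.stalk p :=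
    LinearEquiv.ofBijective _ (bijective_toSpanSingleton_germ L U e he p hpU)
  let σ : (Fin (r + 1) → k) → LinSer.Sect C L := fun c =>
    ∑ i, (Coh.toGlobal (C ↘ Spec (CommRingCat.of k)) (c i)) • s i
  have hσadd : ∀ c c', σ (c + c') = σ c + σ c' := by
    intro c c'
    simp only [σ, Pi.add_apply, map_add, add_smul, Finset.sum_add_distrib]
  have hσsmul : ∀ (a : k) c, σ (a • c) =
      (Coh.toGlobal (C ↘ Spec (CommRingCat.of k)) a) • σ c := by
    intro a c
    simp only [σ, Pi.smul_apply, smul_eq_mul, map_mul, mul_smul, Finset.smul_sum]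
  let φ : (Fin (r + 1) → k) →+ L.presheaf.stalk p :=
    { toFun := fun c => L.presheaf.germ ⊤ p trivial (σ c)
      map_zero' := by
        have : σ 0 = 0 := by
          simp only [σ, Pi.zero_apply, map_zero, zero_smul, Finset.sum_const_zero]
        show L.presheaf.germ ⊤ p trivial (σ 0) = 0
        rw [this]
        exact map_zero _
      map_add' := fun c c' => by
        show L.presheaf.germ ⊤ p trivial (σ (c + c')) = _
        rw [hσadd]
        exact map_add _ _ _ }
  have hφ : ∀ (a : k) (c : Fin (r + 1) → k), φ (a • c) = constGerm k C p a • φ c := by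
    intro a c
    show L.presheaf.germ ⊤ p trivial (σ (a • c)) = _
    rw [hσsmul]
    exact germ_smul L p ⊤ trivial _ _
  have hinj : Function.Injective φ := by
    rw [injective_iff_map_eq_zero]
    intro c hc
    have hc' : L.presheaf.germ ⊤ p trivial (σ c) = 0 := hc
    apply hs c
    haveI : L.IsQuasicoherent := (isCoh_of_isInvertible L hL).1
    have hsp : genericPoint C ⤳ p := genericPoint_specializes p
    apply Groth.Agent.LD.NormSS.section_eq_zero_of_germ_generic L
      (torsion_eq_bot_of_isInvertible C L hL) (U := ⊤) (σ c) trivial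
    rw [← Groth.Agent.H2.StalkSpec.stalkSpecializes_germ L hsp ⊤ trivial (σ c), hc', map_zero]
  have key := ncard_length_image (k := k) (V := Fin (r + 1) → k) ε (constGerm k C p)
    (exists_const_sub_mem k C p hp) φ hφ hinj
  rw [Module.finrank_fin_fun] at key
  exact key

end Groth.Agent.H5.Ord
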